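import Mathlib
import Groth.Prelude
import Groth.Agent.Lib.Helper7.ImpDesc.Fibre
import Groth.Agent.Lib.Helper7.ImpDesc.Stage

/-!
# helper7: purity along a fibre is unchanged by pushforward along a surjection

For `A → B → C` with `B → C` surjective and a `C`-module `N`: impurities of `N` over `B` and over
`C` with the same base change ring `A'` and the same points `t' ⊆ t` correspond to each other.
-/

set_option linter.style.haveILetI false
set_option linter.unusedVariables false
set_option linter.unusedSectionVars false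
set_option autoImplicit false
set_option backward.isDefEq.respectTransparency.types false
set_option synthInstance.maxHeartbeats 400000
set_option maxHeartbeats 1600000

universe u

open TensorProduct

namespace Groth.Agent.Helper7.PureSurj

attribute [local instance] Algebra.TensorProduct.rightAlgebra

open Groth.Agent.Helper7.ImpDesc

section Core

variable {A' B' C' : Type u} [CommRing A'] [CommRing B'] [CommRing C'] [Algebra A' B']
  [Algebra A' C'] (φ : B' →+* C') (hφA : ∀ a, φ (algebraMap A' B' a) = algebraMap A' C' a)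
  (hφ : Function.Surjective φ)
  {XB XC : Type u} [AddCommGroup XB] [Module B' XB] [Module A' XB] [IsScalarTower A' B' XB]
  [AddCommGroup XC] [Module C' XC] [Module A' XC] [IsScalarTower A' C' XC]
  (e : XB ≃ₗ[A'] XC) (he : ∀ (b : B') (x : XB), e (b • x) = φ b • e x)
  (t' : Ideal A') [t'.IsPrime]

theorem im_iff (x : XB) : im B' t' XB x = 0 ↔ im C' t' XC (e x) = 0 := by
  rw [im_eq_zero_iff, im_eq_zero_iff]
  constructor
  · rintro ⟨s, hs, hmem⟩
    refine ⟨s, hs, ?_⟩
    have h1 : e (s • x) ∈ Submodule.map (e : XB →ₗ[A'] XC) (t' • (⊤ : Submodule A' XB)) :=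
      Submodule.mem_map_of_mem hmem
    rw [Submodule.map_smul'', Submodule.map_top, LinearEquiv.range] at h1
    rwa [map_smul] at h1
  · rintro ⟨s, hs, hmem⟩
    refine ⟨s, hs, ?_⟩
    have h1 : e.symm (s • e x) ∈
        Submodule.map (e.symm : XC →ₗ[A'] XB) (t' • (⊤ : Submodule A' XC)) :=
      Submodule.mem_map_of_mem hmem
    rw [Submodule.map_smul'', Submodule.map_top, LinearEquiv.range] at h1
    rwa [map_smul, LinearEquiv.symm_apply_apply] at h1

include hφA in
theorem comap_comap_eq (Q : Ideal C') :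
    (Q.comap φ).comap (algebraMap A' B') = Q.comap (algebraMap A' C') := by
  ext a
  rw [Ideal.mem_comap, Ideal.mem_comap, Ideal.mem_comap, hφA]

include hφA in
theorem liesOver_comap_iff (Q : Ideal C') (t : Ideal A') :
    (Q.comap φ).LiesOver t ↔ Q.LiesOver t := by
  rw [Ideal.liesOver_iff, Ideal.liesOver_iff, Ideal.under_def, Ideal.under_def,
    comap_comap_eq φ hφA]

include hφA hφ he in
theorem ass_down (PB : Ideal B') [PB.IsPrime] [PB.LiesOver t']
    (hass : FlatCA.fiberIdeal t' PB ∈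
      associatedPrimes (t'.Fiber B') (FlatCA.fiberMod t' B' XB)) :
    ∃ PC : Ideal C', PC.IsPrime ∧ PC.comap φ = PB ∧ PC.LiesOver t' ∧
      FlatCA.fiberIdeal t' PC ∈ associatedPrimes (t'.Fiber C') (FlatCA.fiberMod t' C' XC) := by
  obtain ⟨x, hx⟩ := (mem_ass_iff t' XB PB).mp hass
  have hker : RingHom.ker φ ≤ PB := by
    intro b hb
    rw [hx b]
    refine ⟨1, ?_⟩
    have h0 : b ^ 1 • x = 0 := by
      apply e.injective
      rw [pow_one, he, (RingHom.mem_ker).mp hb, zero_smul, map_zero]
    rw [h0, im_zero]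
  have hcomap : (PB.map φ).comap φ = PB := by
    rw [Ideal.comap_map_of_surjective φ hφ]
    exact sup_eq_left.mpr (by rw [← RingHom.ker_eq_comap_bot]; exact hker)
  haveI hprime : (PB.map φ).IsPrime := Ideal.map_isPrime_of_surjective hφ hker
  haveI hover : (PB.map φ).LiesOver t' := by
    rw [← liesOver_comap_iff φ hφA, hcomap]
    infer_instance
  refine ⟨PB.map φ, hprime, hcomap, hover, ?_⟩
  refine (mem_ass_iff t' XC (PB.map φ)).mpr ⟨e x, fun c => ?_⟩
  obtain ⟨b, rfl⟩ := hφ c
  have h1 : φ b ∈ PB.map φ ↔ b ∈ PB := by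
    rw [← Ideal.mem_comap, hcomap]
  rw [h1, hx b]
  refine exists_congr fun k => ?_
  rw [← map_pow, ← he]
  exact im_iff e t' (b ^ k • x)

include hφA he in
theorem ass_up (PC : Ideal C') [PC.IsPrime] [PC.LiesOver t']
    (hass : FlatCA.fiberIdeal t' PC ∈
      associatedPrimes (t'.Fiber C') (FlatCA.fiberMod t' C' XC)) :
    (PC.comap φ).IsPrime ∧ (PC.comap φ).LiesOver t' ∧
      FlatCA.fiberIdeal t' (PC.comap φ) ∈
        associatedPrimes (t'.Fiber B') (FlatCA.fiberMod t' B' XB) := by
  haveI hprime : (PC.comap φ).IsPrime := Ideal.comap_isPrime φ PC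
  haveI hover : (PC.comap φ).LiesOver t' := by
    rw [liesOver_comap_iff φ hφA]
    infer_instance
  refine ⟨hprime, hover, ?_⟩
  obtain ⟨y, hy⟩ := (mem_ass_iff t' XC PC).mp hass
  refine (mem_ass_iff t' XB (PC.comap φ)).mpr ⟨e.symm y, fun b => ?_⟩
  rw [Ideal.mem_comap, hy (φ b)]
  refine exists_congr fun k => ?_
  rw [im_iff (B' := B') (C' := C') e t' (b ^ k • e.symm y), he, LinearEquiv.apply_symm_apply,
    map_pow]

include hφA in
theorem closure_down (t : Ideal A') (PB : Ideal B') (PC : Ideal C') (hPC : PC.comap φ = PB)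
    (hcl : ∀ (P' : Ideal B') [P'.IsPrime], PB ≤ P' → ¬ P'.LiesOver t) :
    ∀ (Q' : Ideal C') [Q'.IsPrime], PC ≤ Q' → ¬ Q'.LiesOver t := by
  intro Q' _ hle hov
  haveI : (Q'.comap φ).IsPrime := Ideal.comap_isPrime φ Q'
  refine hcl (Q'.comap φ) ?_ ((liesOver_comap_iff φ hφA Q' t).mpr hov)
  rw [← hPC]
  exact Ideal.comap_mono hle

include hφA hφ in
theorem closure_up (t : Ideal A') (PC : Ideal C')
    (hcl : ∀ (Q' : Ideal C') [Q'.IsPrime], PC ≤ Q' → ¬ Q'.LiesOver t) :
    ∀ (P' : Ideal B') [P'.IsPrime], PC.comap φ ≤ P' → ¬ P'.LiesOver t := by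
  intro P' _ hle hov
  have hker : RingHom.ker φ ≤ P' :=
    le_trans (by rw [RingHom.ker_eq_comap_bot]; exact Ideal.comap_mono bot_le) hle
  have hcomap : (P'.map φ).comap φ = P' := by
    rw [Ideal.comap_map_of_surjective φ hφ]
    exact sup_eq_left.mpr (by rw [← RingHom.ker_eq_comap_bot]; exact hker)
  haveI : (P'.map φ).IsPrime := Ideal.map_isPrime_of_surjective hφ hker
  refine hcl (P'.map φ) ?_ ?_
  · intro c hc
    obtain ⟨b, rfl⟩ := hφ c
    exact Ideal.mem_map_of_mem φ (hle (Ideal.mem_comap.mpr hc))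
  · rw [← liesOver_comap_iff φ hφA, hcomap]
    exact hov

end Core

section Setup

variable (A B C : Type u) [CommRing A] [CommRing B] [CommRing C] [Algebra A B] [Algebra B C]
  [Algebra A C] [IsScalarTower A B C]
  (A' B' C' : Type u) [CommRing A'] [CommRing B'] [CommRing C'] [Algebra A A']
  [Algebra B B'] [Algebra A' B'] [Algebra A B'] [IsScalarTower A B B'] [IsScalarTower A A' B']
  [Algebra.IsPushout A B A' B']
  [Algebra C C'] [Algebra A' C'] [Algebra A C'] [IsScalarTower A C C'] [IsScalarTower A A' C']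

/-- the comparison map of the two pushouts -/
noncomputable def phi : B' →ₐ[A] C' :=
  Algebra.pushoutDesc B' ((IsScalarTower.toAlgHom A C C').comp (IsScalarTower.toAlgHom A B C))
    (IsScalarTower.toAlgHom A A' C') (fun _ _ => mul_comm _ _)

theorem phi_B (b : B) :
    phi A B C A' B' C' (algebraMap B B' b) = algebraMap C C' (algebraMap B C b) := by
  unfold phi
  rw [Algebra.pushoutDesc_left]
  rfl

theorem phi_A' (a : A') : phi A B C A' B' C' (algebraMap A' B' a) = algebraMap A' C' a := by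
  unfold phi
  rw [Algebra.pushoutDesc_right]
  rfl

theorem phi_surjective [Algebra.IsPushout A C A' C']
    (hBC : Function.Surjective (algebraMap B C)) :
    Function.Surjective (phi A B C A' B' C') := by
  intro c'
  have h : IsBaseChange C (IsScalarTower.toAlgHom A A' C').toLinearMap := Algebra.IsPushout.out
  refine h.inductionOn c' (fun c' => ∃ b', phi A B C A' B' C' b' = c') ⟨0, map_zero _⟩ ?_ ?_ ?_
  · intro a
    exact ⟨algebraMap A' B' a, phi_A' A B C A' B' C' a⟩
  · rintro c x ⟨b', rfl⟩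
    obtain ⟨b, rfl⟩ := hBC c
    refine ⟨algebraMap B B' b * b', ?_⟩
    rw [map_mul, phi_B, Algebra.smul_def]
  · rintro x y ⟨b₁, rfl⟩ ⟨b₂, rfl⟩
    exact ⟨b₁ + b₂, map_add _ _ _⟩

section BC

variable [Algebra B' C'] [Algebra B C'] [IsScalarTower B C C'] [IsScalarTower B B' C']
  [IsScalarTower A' B' C']
  (N : Type u) [AddCommGroup N] [Module C N] [Module B N] [IsScalarTower B C N]
  (XC : Type u) [AddCommGroup XC] [Module C' XC] [Module C XC] [IsScalarTower C C' XC]
  [Module B' XC] [IsScalarTower B' C' XC] [Module B XC] [IsScalarTower B C XC]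
  [IsScalarTower B B' XC] (fC : N →ₗ[C] XC)

theorem bc_restrict (hAC : Algebra.IsPushout A C A' C') (hC : IsBaseChange C' fC) :
    IsBaseChange B' (fC.restrictScalars B) := by
  haveI := hAC
  haveI : IsScalarTower A B' C' := IsScalarTower.of_algebraMap_eq fun a => by
    rw [IsScalarTower.algebraMap_apply A A' C', IsScalarTower.algebraMap_apply A A' B',
      ← IsScalarTower.algebraMap_apply A' B' C']
  haveI : Algebra.IsPushout B C B' C' := (Algebra.IsPushout.comp_iff A B A' B').mp inferInstance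
  exact isBaseChange_restrict N B' C' XC fC hC

end BC

section Equiv

variable [Algebra.IsPushout A C A' C']
  (N : Type u) [AddCommGroup N] [Module C N] [Module B N] [IsScalarTower B C N]
  (XB : Type u) [AddCommGroup XB] [Module B' XB] [Module B XB] [IsScalarTower B B' XB]
  [Module A' XB] [IsScalarTower A' B' XB] (fB : N →ₗ[B] XB)
  (XC : Type u) [AddCommGroup XC] [Module C' XC] [Module C XC] [IsScalarTower C C' XC]
  [Module A' XC] [IsScalarTower A' C' XC] (fC : N →ₗ[C] XC)

theorem exists_equiv (hB : IsBaseChange B' fB) (hC : IsBaseChange C' fC) :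
    ∃ e : XB ≃ₗ[A'] XC, ∀ (b : B') (x : XB),
      e (b • x) = (phi A B C A' B' C').toRingHom b • e x := by
  letI algB'C' : Algebra B' C' := (phi A B C A' B' C').toRingHom.toAlgebra
  letI algBC' : Algebra B C' := ((algebraMap C C').comp (algebraMap B C)).toAlgebra
  haveI t1 : IsScalarTower B C C' := IsScalarTower.of_algebraMap_eq fun _ => rfl
  haveI t2 : IsScalarTower B B' C' := IsScalarTower.of_algebraMap_eq fun b =>
    (phi_B A B C A' B' C' b).symm
  haveI t3 : IsScalarTower A' B' C' := IsScalarTower.of_algebraMap_eq fun a =>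
    (phi_A' A B C A' B' C' a).symm
  letI mB' : Module B' XC := Module.compHom XC (algebraMap B' C')
  letI mB : Module B XC := Module.compHom XC (algebraMap B C)
  haveI t4 : IsScalarTower B' C' XC := ⟨fun b c x => by
    rw [Algebra.smul_def, mul_smul]
    rfl⟩
  haveI t5 : IsScalarTower B C XC := ⟨fun b c x => by
    rw [Algebra.smul_def, mul_smul]
    rfl⟩
  haveI t6 : IsScalarTower B B' XC := ⟨fun b b' x => by
    change algebraMap B' C' (b • b') • x = algebraMap B C b • (algebraMap B' C' b' • x)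
    rw [Algebra.smul_def, map_mul, mul_smul, ← IsScalarTower.algebraMap_apply B B' C',
      IsScalarTower.algebraMap_apply B C C', algebraMap_smul]⟩
  haveI t7 : IsScalarTower A' B' XC := ⟨fun a b' x => by
    change algebraMap B' C' (a • b') • x = a • (algebraMap B' C' b' • x)
    rw [Algebra.smul_def, map_mul, mul_smul, ← IsScalarTower.algebraMap_apply A' B' C',
      algebraMap_smul]⟩
  have hbc : IsBaseChange B' (fC.restrictScalars B) := bc_restrict A B C A' B' C' N XC fC inferInstance hC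
  let e₀ : XB ≃ₗ[B'] XC := hB.equiv.symm ≪≫ₗ hbc.equiv
  refine ⟨e₀.restrictScalars A', fun b x => ?_⟩
  exact e₀.map_smul b x

end Equiv

section Transfer

variable [Algebra.IsPushout A C A' C'] (hBC : Function.Surjective (algebraMap B C))
  (N : Type u) [AddCommGroup N] [Module C N] [Module B N] [IsScalarTower B C N]
  (XB : Type u) [AddCommGroup XB] [Module B' XB] [Module B XB] [IsScalarTower B B' XB]
  [Module A' XB] [IsScalarTower A' B' XB] (fB : N →ₗ[B] XB)
  (XC : Type u) [AddCommGroup XC] [Module C' XC] [Module C XC] [IsScalarTower C C' XC]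
  [Module A' XC] [IsScalarTower A' C' XC] (fC : N →ₗ[C] XC)
  (p : Ideal A) [p.IsPrime] (t' t : Ideal A') [t'.IsPrime] [t.IsPrime]

include hBC in
theorem down (PB : Ideal B') [PB.IsPrime] (hC : IsBaseChange C' fC)
    (himp : FlatCA.IsImpurity A B N p A' B' XB fB t' t PB) :
    ∃ (PC : Ideal C') (_ : PC.IsPrime), FlatCA.IsImpurity A C N p A' C' XC fC t' t PC := by
  obtain ⟨_, hB, hle, htp, hPt', hass, hcl⟩ := himp
  obtain ⟨e, he⟩ := exists_equiv A B C A' B' C' N XB fB XC fC hB hC
  have hφA : ∀ a, (phi A B C A' B' C').toRingHom (algebraMap A' B' a) = algebraMap A' C' a :=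
    fun a => phi_A' A B C A' B' C' a
  have hφ : Function.Surjective (phi A B C A' B' C').toRingHom :=
    phi_surjective A B C A' B' C' hBC
  haveI := hPt'
  obtain ⟨PC, hPCprime, hcomap, hPCover, hassC⟩ :=
    ass_down (phi A B C A' B' C').toRingHom hφA hφ e he t' PB hass
  refine ⟨PC, hPCprime, inferInstance, hC, hle, htp, hPCover, hassC, ?_⟩
  exact closure_down (phi A B C A' B' C').toRingHom hφA t PB PC hcomap hcl

include hBC in
theorem up (PC : Ideal C') [PC.IsPrime] (hB : IsBaseChange B' fB)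
    (himp : FlatCA.IsImpurity A C N p A' C' XC fC t' t PC) :
    ∃ (PB : Ideal B') (_ : PB.IsPrime), FlatCA.IsImpurity A B N p A' B' XB fB t' t PB := by
  obtain ⟨_, hC, hle, htp, hPt', hass, hcl⟩ := himp
  obtain ⟨e, he⟩ := exists_equiv A B C A' B' C' N XB fB XC fC hB hC
  have hφA : ∀ a, (phi A B C A' B' C').toRingHom (algebraMap A' B' a) = algebraMap A' C' a :=
    fun a => phi_A' A B C A' B' C' a
  have hφ : Function.Surjective (phi A B C A' B' C').toRingHom :=
    phi_surjective A B C A' B' C' hBC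
  haveI := hPt'
  obtain ⟨hprime, hover, hassB⟩ :=
    ass_up (phi A B C A' B' C').toRingHom hφA e he t' PC hass
  refine ⟨PC.comap (phi A B C A' B' C').toRingHom, hprime, inferInstance, hB, hle, htp, hover,
    hassB, ?_⟩
  exact closure_up (phi A B C A' B' C').toRingHom hφA hφ t PC hcl

end Transfer

end Setup

section Main

variable {A B C : Type u} [CommRing A] [CommRing B] [CommRing C] [Algebra A B] [Algebra B C]
  [Algebra A C] [IsScalarTower A B C] (hBC : Function.Surjective (algebraMap B C))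
  (N : Type u) [AddCommGroup N] [Module C N] [Module B N] [IsScalarTower B C N]
  (p : Ideal A) [p.IsPrime]

include hBC in
theorem keyB (A' B' N' : Type u) [CommRing A'] [CommRing B'] [Algebra A A'] [Algebra B B']
    [Algebra A' B'] [Algebra A B'] [IsScalarTower A B B'] [IsScalarTower A A' B']
    [AddCommGroup N'] [Module B' N'] [Module B N'] [IsScalarTower B B' N'] [Module A' N']
    [IsScalarTower A' B' N'] (f : N →ₗ[B] N') (t' t : Ideal A') [t'.IsPrime] [t.IsPrime]
    (P : Ideal B') [P.IsPrime] (himp : FlatCA.IsImpurity A B N p A' B' N' f t' t P) :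
    ∃ (PC : Ideal (C ⊗[A] A')) (_ : PC.IsPrime),
      FlatCA.IsImpurity A C N p A' (C ⊗[A] A') ((C ⊗[A] A') ⊗[C] N)
        (TensorProduct.mk C (C ⊗[A] A') N 1) t' t PC := by
  haveI : Algebra.IsPushout A B A' B' := himp.1
  exact down A B C A' B' (C ⊗[A] A') hBC N N' f ((C ⊗[A] A') ⊗[C] N)
    (TensorProduct.mk C (C ⊗[A] A') N 1) p t' t P (TensorProduct.isBaseChange C N (C ⊗[A] A')) himp

include hBC in
theorem keyC (A' C' N' : Type u) [CommRing A'] [CommRing C'] [Algebra A A'] [Algebra C C']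
    [Algebra A' C'] [Algebra A C'] [IsScalarTower A C C'] [IsScalarTower A A' C']
    [AddCommGroup N'] [Module C' N'] [Module C N'] [IsScalarTower C C' N'] [Module A' N']
    [IsScalarTower A' C' N'] (f : N →ₗ[C] N') (t' t : Ideal A') [t'.IsPrime] [t.IsPrime]
    (P : Ideal C') [P.IsPrime] (himp : FlatCA.IsImpurity A C N p A' C' N' f t' t P) :
    ∃ (PB : Ideal (B ⊗[A] A')) (_ : PB.IsPrime),
      FlatCA.IsImpurity A B N p A' (B ⊗[A] A') ((B ⊗[A] A') ⊗[B] N)
        (TensorProduct.mk B (B ⊗[A] A') N 1) t' t PB := by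
  haveI : Algebra.IsPushout A C A' C' := himp.1
  exact up A B C A' (B ⊗[A] A') C' hBC N ((B ⊗[A] A') ⊗[B] N)
    (TensorProduct.mk B (B ⊗[A] A') N 1) N' f p t' t P
    (TensorProduct.isBaseChange B N (B ⊗[A] A')) himp

include hBC in
theorem main_S8999 :
    (FlatCA.IsPureAlong A C N p ↔ FlatCA.IsPureAlong A B N p) ∧
      (FlatCA.IsUnivPureAlong A C N p ↔ FlatCA.IsUnivPureAlong A B N p) := by
  refine ⟨⟨fun h => ?_, fun h => ?_⟩, ⟨fun h => ?_, fun h => ?_⟩⟩
  · intro A' B' N' _ _ _ _ _ _ _ _ _ _ _ _ _ _ f t' t _ _ P _ het himp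
    obtain ⟨PC, hPC, himpC⟩ := keyB hBC N p A' B' N' f t' t P himp
    exact h A' (C ⊗[A] A') ((C ⊗[A] A') ⊗[C] N) _ t' t PC het himpC
  · intro A' C' N' _ _ _ _ _ _ _ _ _ _ _ _ _ _ f t' t _ _ P _ het himp
    obtain ⟨PB, hPB, himpB⟩ := keyC hBC N p A' C' N' f t' t P himp
    exact h A' (B ⊗[A] A') ((B ⊗[A] A') ⊗[B] N) _ t' t PB het himpB
  · intro A' B' N' _ _ _ _ _ _ _ _ _ _ _ _ _ _ f t' t _ _ P _ himp
    obtain ⟨PC, hPC, himpC⟩ := keyB hBC N p A' B' N' f t' t P himp
    exact h A' (C ⊗[A] A') ((C ⊗[A] A') ⊗[C] N) _ t' t PC himpC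
  · intro A' C' N' _ _ _ _ _ _ _ _ _ _ _ _ _ _ f t' t _ _ P _ himp
    obtain ⟨PB, hPB, himpB⟩ := keyC hBC N p A' C' N' f t' t P himp
    exact h A' (B ⊗[A] A') ((B ⊗[A] A') ⊗[B] N) _ t' t PB himpB

end Main

end Groth.Agent.Helper7.PureSurj
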